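import Groth.Agent.AbVar.K511.HT.LieChart
import Groth.Agent.Sga7.H620.DimSmooth

/-!
# Specialization of eigenvectors in the Lie algebra

`exists_eig_residue`: `X` a smooth commutative group scheme over a local ring `R`, with an action `Θ` of `O`; if a
character `φ : O → R` occurs in the Lie algebra over some field `K` over `R`, then it occurs in the Lie algebra over the
residue field.
-/

set_option autoImplicit false
set_option linter.unusedSectionVars false
universe u
open CategoryTheory CategoryTheory.Limits MonoidalCategory CartesianMonoidalCategory MonObj GrpObj AlgebraicGeometry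
open LieS K988.LieModel K988.LieCalc K988.LieScale
open Groth.Agent.FlatB.PushRing

noncomputable section

namespace K510.HT.EigSpec

open K511.HT Groth.Agent

section lin

variable {R K : Type*} [CommRing R] [IsLocalRing R] [Field K] {n : ℕ}

/-- Reduction of vectors. -/
def red (R : Type*) [CommRing R] [IsLocalRing R] (n : ℕ) (x : Fin n → R) : Fin n → IsLocalRing.ResidueField R :=
  fun i => IsLocalRing.residue R (x i)

theorem exists_span (S : Set (Fin n → R)) (z : Fin n → IsLocalRing.ResidueField R)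
    (hz : z ∈ Submodule.span (IsLocalRing.ResidueField R) (red R n '' S)) :
    ∃ y ∈ Submodule.span R S, red R n y = z := by
  induction hz using Submodule.span_induction with
  | mem x hx =>
    obtain ⟨y, hy, rfl⟩ := hx
    exact ⟨y, Submodule.subset_span hy, rfl⟩
  | zero => exact ⟨0, zero_mem _, funext fun i => map_zero _⟩
  | add x y _ _ hx hy =>
    obtain ⟨a, ha, rfl⟩ := hx
    obtain ⟨b, hb, rfl⟩ := hy
    exact ⟨a + b, add_mem ha hb, funext fun i => map_add _ _ _⟩
  | smul a x _ hx =>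
    obtain ⟨y, hy, rfl⟩ := hx
    obtain ⟨a', rfl⟩ := IsLocalRing.residue_surjective a
    exact ⟨a' • y, Submodule.smul_mem _ _ hy, funext fun i => map_mul _ _ _⟩

/-- A system of linear equations over a local ring with a nonzero solution over some field has a nonzero solution over
the residue field. -/
theorem exists_ker_residue (h : R →+* K) (S : Set (Fin n → R))
    (hS : ∃ w : Fin n → K, w ≠ 0 ∧ ∀ r ∈ S, ∑ i, h (r i) * w i = 0) :
    ∃ w : Fin n → IsLocalRing.ResidueField R, w ≠ 0 ∧ ∀ r ∈ S, ∑ i, IsLocalRing.residue R (r i) * w i = 0 := by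
  by_contra hcon
  obtain ⟨w, hw, hwS⟩ := hS
  have h1 : Submodule.span (IsLocalRing.ResidueField R) (red R n '' S) = ⊤ := by
    by_contra h2
    obtain ⟨f, hf, hle⟩ := Submodule.exists_le_ker_of_lt_top _ (lt_top_iff_ne_top.2 h2)
    refine hcon ⟨fun i => f (Pi.single i 1), fun h3 => hf ?_, fun r hr => ?_⟩
    · refine LinearMap.pi_ext' fun i => LinearMap.ext_ring ?_
      exact congrFun h3 i
    · have h4 : f (red R n r) = 0 := hle (Submodule.subset_span ⟨r, hr, rfl⟩)
      rw [← h4]
      conv_rhs => rw [pi_eq_sum_univ (red R n r), map_sum]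
      refine Finset.sum_congr rfl fun i _ => ?_
      rw [map_smul, smul_eq_mul]
      change _ * f (Pi.single i 1) = _
      congr 2
      funext j
      rw [Pi.single_apply]
      exact if_congr eq_comm rfl rfl
  have h2 : (⊤ : Submodule R (Fin n → R)) ≤ Submodule.span R S := by
    refine Submodule.le_of_le_smul_of_le_jacobson_bot (I := IsLocalRing.maximalIdeal R) Module.Finite.fg_top
      (IsLocalRing.maximalIdeal_le_jacobson _) fun x _ => ?_
    obtain ⟨y, hy, hxy⟩ := exists_span S (red R n x) (by rw [h1]; trivial)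
    have h3 : x = y + (x - y) := by abel
    rw [h3]
    refine Submodule.add_mem_sup hy ?_
    rw [pi_eq_sum_univ (x - y)]
    refine Submodule.sum_mem _ fun i _ => Submodule.smul_mem_smul ?_ trivial
    rw [Pi.sub_apply, ← Ideal.Quotient.eq_zero_iff_mem, map_sub, sub_eq_zero]
    exact (congrFun hxy i).symm
  refine hw (funext fun i => ?_)
  have h3 : ∀ r ∈ Submodule.span R S, ∑ i, h (r i) * w i = 0 := by
    intro r hr
    induction hr using Submodule.span_induction with
    | mem x hx => exact hwS x hx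
    | zero => simp
    | add x y _ _ hx hy =>
      simp only [Pi.add_apply, map_add, add_mul, Finset.sum_add_distrib, hx, hy, add_zero]
    | smul a x _ hx =>
      simp only [Pi.smul_apply, smul_eq_mul, map_mul, _root_.mul_assoc, ← Finset.mul_sum, hx, mul_zero]
  have h4 := h3 (Pi.single i 1) (h2 trivial)
  rw [Finset.sum_eq_single i] at h4
  · simpa using h4
  · intro j _ hj
    rw [Pi.single_eq_of_ne hj, map_zero, zero_mul]
  · intro hi
    exact absurd (Finset.mem_univ i) hi

end lin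

section chart

variable {R : Type u} [CommRing R] (G : Over (Spc R)) [GrpObj G]

/-- Charts exist for smooth group schemes over local rings. -/
theorem exists_chart [IsLocalRing R] [Smooth G.hom] : ∃ g, Nonempty (Chart R G g) := by
  let s₀ : Spc R := IsLocalRing.closedPoint R
  let η₀ : Spc R ⟶ G.left := (η[G] : 𝟙_ (Over (Spc R)) ⟶ G).left
  have hη : η₀ ≫ G.hom = 𝟙 _ := Over.w (η[G] : 𝟙_ (Over (Spc R)) ⟶ G)
  obtain ⟨U, hU, V, hV, hx, e, hf'⟩ := Smooth.exists_isStandardSmooth G.hom (η₀ s₀)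
  obtain ⟨g, hf⟩ := Picfga.CurveRelDim.exists_relativeDimension hf'
  refine ⟨g, ?_⟩
  have hUt : U = ⊤ := by
    apply (IsLocalRing.closed_point_mem_iff (R := R)).1
    have h1 : G.hom (η₀ s₀) ∈ U := e hx
    rw [← Scheme.Hom.comp_apply, hη] at h1
    exact h1
  subst hUt
  have hVt : η₀ ⁻¹ᵁ V = ⊤ := (IsLocalRing.closed_point_mem_iff (R := R)).1 hx
  let j : Spc Γ(G.left, V) ⟶ G.left := hV.fromSpec
  let ψ : R →+* Γ(G.left, V) := (G.hom.appLE ⊤ V e).hom.comp (Scheme.ΓSpecIso (CommRingCat.of R)).inv.hom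
  have hψ : RingHom.IsStandardSmoothOfRelativeDimension g ψ :=
    (RingHom.isStandardSmoothOfRelativeDimension_respectsIso (n := g)).2 (G.hom.appLE ⊤ V e).hom
      (Scheme.ΓSpecIso (CommRingCat.of R)).symm.commRingCatIsoToRingEquiv hf
  let _ : Algebra R Γ(G.left, V) := ψ.toAlgebra
  have : Algebra.IsStandardSmoothOfRelativeDimension g R Γ(G.left, V) := hψ
  have hj : j ≫ G.hom = spm (algebraMap R Γ(G.left, V)) := by
    have h1 := IsAffineOpen.SpecMap_appLE_fromSpec G.hom hU hV e
    rw [← h1]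
    have h2 : hU.fromSpec = Spec.map (Scheme.ΓSpecIso (CommRingCat.of R)).inv := by
      rw [← Scheme.isoSpec_Spec_inv, ← IsAffineOpen.fromSpec_top]
    rw [h2, ← Spec.map_comp]
    rfl
  have hr : Set.range η₀ ⊆ Set.range j := by
    rw [hV.range_fromSpec]
    rintro _ ⟨y, rfl⟩
    have : y ∈ η₀ ⁻¹ᵁ V := by rw [hVt]; trivial
    exact this
  have : IsOpenImmersion j := hV.isOpenImmersion_fromSpec
  obtain ⟨ε, hε⟩ := exists_spm (IsOpenImmersion.lift j η₀ hr)
  have hε' : spm ε ≫ j = η₀ := by rw [← hε, IsOpenImmersion.lift_fac]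
  obtain ⟨x, b, hb⟩ := exists_basis_D R g Γ(G.left, V)
  exact ⟨
    { C := Γ(G.left, V)
      j := j
      hj := hj
      e := { ε with
        commutes' := fun a => by
          have h1 : ε.comp (algebraMap R Γ(G.left, V)) = RingHom.id R := by
            apply spm_injective
            rw [← spm_comp, ← hj, ← Category.assoc, hε', hη]
            exact (Spec.map_id _).symm
          exact RingHom.congr_fun h1 a }
      he := hε'
      x := x
      b := b
      hb := hb }⟩

variable {G} [IsCommMonObj G] {g : ℕ} (c : Chart R G g)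

/-- The basis of tangent vectors of a chart. -/
def bv (i : Fin g) : LL (𝟙 (Spc R)) G := (c.coE (𝟙 (Spc R))).symm (Pi.single i 1)

theorem co_bv (i : Fin g) : c.co (𝟙 (Spc R)) (bv c i) = Pi.single i 1 :=
  (c.coE (𝟙 (Spc R))).apply_symm_apply _

/-- The matrix coefficients of an endomorphism. -/
def mc (F : EndAV.End G) (j i : Fin g) : R := c.co (𝟙 (Spc R)) (lieEnd (𝟙 (Spc R)) G F (bv c i)) j

variable {B : Type u} [CommRing B] (h : R →+* B)

theorem eq_sum (w : LL (spm h ≫ 𝟙 (Spc R)) G) :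
    w = ∑ i, c.co _ w i • liePull (𝟙 (Spc R)) h G (bv c i) := by
  apply c.co_injective (spm h ≫ 𝟙 (Spc R))
  rw [map_sum]
  funext j
  rw [Finset.sum_apply, Finset.sum_eq_single j]
  · rw [map_smul, Pi.smul_apply, c.co_pull, co_bv, Pi.single_eq_same, map_one, smul_eq_mul, _root_.mul_one]
  · intro i _ hij
    rw [map_smul, Pi.smul_apply, c.co_pull, co_bv, Pi.single_eq_of_ne hij.symm, map_zero, smul_zero]
  · intro hj
    exact absurd (Finset.mem_univ j) hj

theorem co_lieEnd (F : EndAV.End G) (w : LL (spm h ≫ 𝟙 (Spc R)) G) (j : Fin g) :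
    c.co _ (lieEnd _ G F w) j = ∑ i, h (mc c F j i) * c.co _ w i := by
  conv_lhs => rw [eq_sum c h w]
  rw [map_sum, map_sum, Finset.sum_apply]
  refine Finset.sum_congr rfl fun i _ => ?_
  rw [map_smul, map_smul, Pi.smul_apply, smul_eq_mul, mul_comm]
  congr 1
  have h1 : lieEnd (spm h ≫ 𝟙 (Spc R)) G F (liePull (𝟙 (Spc R)) h G (bv c i)) =
      liePull (𝟙 (Spc R)) h G (lieEnd (𝟙 (Spc R)) G F (bv c i)) :=
    (liePull_lieMap (𝟙 (Spc R)) h F (bv c i)).symm
  rw [h1, c.co_pull]
  rfl

/-- The rows of the linear system of the eigenvectors. -/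
def rows {O : Type} [CommRing O] (Θ : O →+* EndAV.End G) (φ : O →+* R) : Set (Fin g → R) :=
  Set.range fun p : O × Fin g => fun i => mc c (Θ p.1) p.2 i - φ p.1 * (Pi.single p.2 (1 : R) : Fin g → R) i

theorem eig_iff_rows {O : Type} [CommRing O] (Θ : O →+* EndAV.End G) (φ : O →+* R) (f : Spc B ⟶ Spc R)
    (hf : f = spm h ≫ 𝟙 (Spc R)) :
    (∃ v : LL f G, v ≠ 0 ∧ ∀ b, lieEnd f G (Θ b) v = h (φ b) • v) ↔
      ∃ w : Fin g → B, w ≠ 0 ∧ ∀ r ∈ rows c Θ φ, ∑ i, h (r i) * w i = 0 := by
  subst hf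
  have key (v : LL (spm h ≫ 𝟙 (Spc R)) G) (b : O) (j : Fin g) :
      ∑ i, h (mc c (Θ b) j i - φ b * (Pi.single j (1 : R) : Fin g → R) i) * c.co _ v i =
      c.co _ (lieEnd _ G (Θ b) v) j - h (φ b) * c.co _ v j := by
    rw [co_lieEnd]
    simp only [map_sub, sub_mul, Finset.sum_sub_distrib]
    congr 1
    rw [Finset.sum_eq_single j]
    · rw [Pi.single_eq_same, _root_.mul_one]
    · intro i _ hij
      rw [Pi.single_eq_of_ne hij, mul_zero, map_zero, zero_mul]
    · intro hj
      exact absurd (Finset.mem_univ j) hj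
  constructor
  · rintro ⟨v, hv, hv'⟩
    refine ⟨c.co _ v, fun h0 => hv (c.co_injective _ (by rw [h0, map_zero])), ?_⟩
    rintro _ ⟨⟨b, j⟩, rfl⟩
    rw [key, hv' b, map_smul, Pi.smul_apply, smul_eq_mul, sub_self]
  · rintro ⟨w, hw, hw'⟩
    obtain ⟨v, rfl⟩ := c.co_surjective (spm h ≫ 𝟙 (Spc R)) w
    refine ⟨v, fun h0 => hw (by rw [h0, map_zero]), fun b => c.co_injective _ (funext fun j => ?_)⟩
    have h1 := hw' _ ⟨⟨b, j⟩, rfl⟩
    rw [key, sub_eq_zero] at h1
    rw [h1, map_smul, Pi.smul_apply, smul_eq_mul]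

end chart

/-- Specialization of eigenvectors. -/
theorem exists_eig_residue {R K : Type u} [CommRing R] [IsLocalRing R] [Field K] (h : R →+* K)
    (X : Over (Spc R)) [GrpObj X] [IsCommMonObj X] [Smooth X.hom] {O : Type} [CommRing O] (Θ : O →+* EndAV.End X)
    (φ : O →+* R) (hK : Eig K (Red.bc (spm h) X) ((bcEnd (spm h) X).comp Θ) (h.comp φ)) :
    Eig (IsLocalRing.ResidueField R) (Red.bc (spm (IsLocalRing.residue R)) X)
      ((bcEnd (spm (IsLocalRing.residue R)) X).comp Θ) ((IsLocalRing.residue R).comp φ) := by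
  obtain ⟨g, ⟨c⟩⟩ := exists_chart X
  have key {B : Type u} [CommRing B] (t : R →+* B) :
      Eig B (Red.bc (spm t) X) ((bcEnd (spm t) X).comp Θ) (t.comp φ) ↔
      ∃ w : Fin g → B, w ≠ 0 ∧ ∀ r ∈ rows c Θ φ, ∑ i, t (r i) * w i = 0 := by
    rw [eig_iff, ← eig_iff_rows c t Θ φ (𝟙 (Spc B) ≫ spm t) (by rw [Category.id_comp, Category.comp_id])]
    constructor
    · rintro ⟨v, hv, hv'⟩
      refine ⟨lieBc (spm t) (𝟙 (Spc B)) X v, fun h0 => hv ((LinearEquiv.map_eq_zero_iff _).1 h0), fun b => ?_⟩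
      rw [← lieBc_lieEnd, ← map_smul]
      exact congrArg _ (hv' b)
    · rintro ⟨v, hv, hv'⟩
      refine ⟨(lieBc (spm t) (𝟙 (Spc B)) X).symm v, fun h0 => hv ((LinearEquiv.map_eq_zero_iff _).1 h0), fun b => ?_⟩
      apply (lieBc (spm t) (𝟙 (Spc B)) X).injective
      change lieBc (spm t) (𝟙 (Spc B)) X (lieEnd (𝟙 (Spc B)) _ (bcEnd (spm t) X (Θ b)) _) = _
      rw [lieBc_lieEnd, LinearEquiv.apply_symm_apply, hv' b]
      exact ((map_smul (lieBc (spm t) (𝟙 (Spc B)) X) (t (φ b)) _).trans (by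
        rw [LinearEquiv.apply_symm_apply])).symm
  rw [key] at hK ⊢
  exact exists_ker_residue h _ hK

end K510.HT.EigSpec
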