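import Groth.Agent.S17449
import Groth.Agent.Fdesc.GeomConn
import Groth.Agent.Models.K378.GeomInt

/-!
# Geometric connectedness of the fibres of a smooth proper scheme over a domain from the generic fibre
-/

set_option autoImplicit false
universe u

open CategoryTheory Limits AlgebraicGeometry

namespace K510.HT.SpreadConn

theorem gc_iso_comp {A B C : Scheme.{u}} (e : A ⟶ B) [IsIso e] (f : B ⟶ C)
    [GeometricallyConnected f] : GeometricallyConnected (e ≫ f) := by
  refine MorphismProperty.of_isPullback (P := @GeometricallyConnected) (f := 𝟙 _) (f' := e)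
    (g := f) ?_ inferInstance
  exact IsPullback.of_horiz_isIso ⟨by rw [Category.comp_id]⟩

/-- Geometric connectedness of a fibre descends from any geometric point. -/
theorem gc_fiber {X S : Scheme.{u}} (f : X ⟶ S) {K : Type u} [Field K] (y : Spec (CommRingCat.of K) ⟶ S)
    [hK : GeometricallyConnected (pullback.snd f y)] :
    GeometricallyConnected (f.fiberToSpecResidueField (y (IsLocalRing.closedPoint K))) := by
  obtain ⟨⟨x, φ⟩, rfl⟩ := (Scheme.SpecToEquivOfField K S).symm.surjective y
  have hx : ((Scheme.SpecToEquivOfField K S).symm ⟨x, φ⟩) (IsLocalRing.closedPoint K) = x := by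
    change (Spec.map φ ≫ S.fromSpecResidueField x) (IsLocalRing.closedPoint K) = x
    simp
  rw [hx]
  let _ : Algebra (S.residueField x) K := φ.hom.toAlgebra
  have h1 : GeometricallyConnected (pullback.snd f (Spec.map φ ≫ S.fromSpecResidueField x)) := hK
  have h2 : GeometricallyConnected (pullback.snd (f.fiberToSpecResidueField x)
      (Spec.map (CommRingCat.ofHom (algebraMap (S.residueField x) K)))) := by
    have h3 := pullbackLeftPullbackSndIso_hom_snd f (S.fromSpecResidueField x) (Spec.map φ)
    change GeometricallyConnected (pullback.snd (pullback.snd f (S.fromSpecResidueField x)) (Spec.map φ))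
    rw [← h3]
    exact gc_iso_comp _ _
  exact @Groth.Agent.Fdesc.GeomConn.geometricallyConnected_of_pullback_snd (S.residueField x) _ _
    (f.fiberToSpecResidueField x) K _ _ h2

/-- The generic point of the spectrum of a domain. -/
theorem eq_gen {R K : Type u} [CommRing R] [IsDomain R] [Field K] (φ : R →+* K) (hφ : Function.Injective φ)
    (Z : Set (Spec (CommRingCat.of R))) (η : Spec (CommRingCat.of R))
    (hZ : Z ∈ irreducibleComponents (Spec (CommRingCat.of R))) (hη : IsGenericPoint η Z) :
    η = (Spec.map (CommRingCat.ofHom φ)) (IsLocalRing.closedPoint K) := by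
  have h1 : irreducibleComponents (Spec (CommRingCat.of R)) = {Set.univ} := by
    have : IrreducibleSpace (Spec (CommRingCat.of R)) := inferInstance
    exact irreducibleComponents_eq_singleton
  rw [h1, Set.mem_singleton_iff] at hZ
  subst hZ
  have h2 : IsGenericPoint ((Spec.map (CommRingCat.ofHom φ)) (IsLocalRing.closedPoint K))
      (Set.univ : Set (Spec (CommRingCat.of R))) := by
    have h3 : (Spec.map (CommRingCat.ofHom φ)) (IsLocalRing.closedPoint K) = (⊥ : PrimeSpectrum R) := by
      apply PrimeSpectrum.ext
      change Ideal.comap φ (IsLocalRing.maximalIdeal K) = ⊥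
      rw [IsLocalRing.maximalIdeal_eq_bot, ← RingHom.ker_eq_comap_bot]
      exact (RingHom.injective_iff_ker_eq_bot φ).1 hφ
    rw [h3]
    change closure {(⊥ : PrimeSpectrum R)} = Set.univ
    rw [PrimeSpectrum.closure_singleton]
    apply Set.eq_univ_of_forall
    intro x
    exact bot_le (a := x.asIdeal)
  exact hη.eq h2

/-- Geometric integrality of the fibres of a smooth proper scheme with geometrically connected generic fibre. -/
theorem geomInt_of_gen {R K : Type u} [CommRing R] [IsDomain R] [IsNoetherianRing R] [Field K] (φ : R →+* K)
    (hφ : Function.Injective φ) {X : Scheme.{u}} (f : X ⟶ Spec (CommRingCat.of R)) [IsProper f] [Smooth f]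
    [Surjective f] [GeometricallyConnected (pullback.snd f (Spec.map (CommRingCat.ofHom φ)))] :
    GeometricallyIntegral f := by
  have h1 : GeometricallyConnected f := by
    refine Groth.Agent.S17449.result f fun Z η hZ hη => ⟨?_, ?_⟩
    · rw [eq_gen φ hφ Z η hZ hη]
      exact gc_fiber f _
    · exact inferInstanceAs (Smooth (pullback.snd f _))
  exact Groth.Agent.Models.K378.GeomInt.geometricallyIntegral_of_connected f

end K510.HT.SpreadConn
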