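import Groth.Agent.AbVar.K510.HT.SpreadAct
import Groth.Agent.AbVar.K510.HT.SpreadConn
import Groth.Agent.AbVar.K510.HT.EigSpec
import Groth.Agent.AbVar.K940.RedGen

/-!
# The node `SP` of the proof of the Honda–Tate theorem: spreading out and specialization to a number field
-/

set_option autoImplicit false
universe u
open CategoryTheory CategoryTheory.Limits MonoidalCategory CartesianMonoidalCategory MonObj GrpObj AlgebraicGeometry
open LieS K988.LieModel

namespace K510.HT.SP

open K511.HT Groth.Agent K510.HT.SpreadAct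

/-- Occurrence of a character in the Lie algebra is invariant under isomorphisms. -/
theorem eig_of_iso {K : Type u} [CommRing K] {A B : Over (Spc K)} [GrpObj A] [IsCommMonObj A] [GrpObj B]
    [IsCommMonObj B] (e : B ≅ A) [IsMonHom e.hom] {O : Type} [CommRing O] (ρ : O →+* EndAV.End A)
    (σ : O →+* EndAV.End B) (hρ : ∀ b, (σ b).toHom ≫ e.hom = e.hom ≫ (ρ b).toHom) (φ : O →+* K)
    (h : Eig K A ρ φ) : Eig K B σ φ := by
  rw [eig_iff] at h ⊢
  obtain ⟨v, hv, hv'⟩ := h
  let E : EndAV.Hom A B := EndAV.Hom.of e.inv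
  let E' : EndAV.Hom B A := EndAV.Hom.of e.hom
  have h1 : (E ≫ E' : EndAV.Hom A A) = 𝟙 (CommGrp.mk A) := EndAV.Hom.ext e.inv_hom_id
  have h2 : lieMap (𝟙 (Spc K)) E' (lieMap (𝟙 (Spc K)) E v) = v := by
    have h3 := lieMap_comp (𝟙 (Spc K)) E E'
    rw [h1, lieMap_id] at h3
    exact (LinearMap.congr_fun h3 v).symm
  refine ⟨lieMap (𝟙 (Spc K)) E v, fun h0 => hv ?_, fun b => ?_⟩
  · rw [← h2, h0, map_zero]
  · have h3 : (E ≫ (σ b) : EndAV.Hom A B) = (ρ b) ≫ E := by
      apply EndAV.Hom.ext
      change e.inv ≫ (σ b).toHom = (ρ b).toHom ≫ e.inv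
      rw [Iso.inv_comp_eq, ← Category.assoc, Iso.eq_comp_inv]
      exact hρ b
    have h4 := lieMap_comp (𝟙 (Spc K)) E (σ b)
    have h5 := lieMap_comp (𝟙 (Spc K)) (ρ b) E
    rw [h3, h5] at h4
    have h6 := LinearMap.congr_fun h4 v
    rw [LinearMap.comp_apply, LinearMap.comp_apply] at h6
    change lieMap (𝟙 (Spc K)) (σ b) (lieMap (𝟙 (Spc K)) E v) = _
    rw [← h6]
    have h7 := hv' b
    change lieMap (𝟙 (Spc K)) (ρ b) v = _ at h7
    rw [h7, map_smul]

/-- Specialization of a model over a local ring. -/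
theorem special {K R : Type u} [Field K] [CommRing R] [IsLocalRing R] [IsDomain R] [IsNoetherianRing R]
    (h : R →+* K) (hinj : Function.Injective h) (A : Over (Spc K)) [GrpObj A] [IsCommMonObj A] [IsProper A.hom]
    [GeometricallyIntegral A.hom] (g : ℕ) (hg : topologicalKrullDim A.left = g) {O : Type} [CommRing O]
    (ρ : O →+* EndAV.End A) (hm : RMdl (spm h) A ρ) {M : Type} [Field M] (iM : M →+* R) (Φ : Finset (O →+* M))
    (hΦ : ∀ φ ∈ Φ, Eig K A ρ ((h.comp iM).comp φ)) :
    ∃ (A' : Over (Spc (IsLocalRing.ResidueField R))) (_ : GrpObj A') (_ : IsCommMonObj A') (_ : IsProper A'.hom)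
      (_ : GeometricallyIntegral A'.hom) (_ : topologicalKrullDim A'.left = g) (ρ' : O →+* EndAV.End A'),
      ∀ φ ∈ Φ, Eig (IsLocalRing.ResidueField R) A' ρ' (((IsLocalRing.residue R).comp iM).comp φ) := by
  obtain ⟨X, _, _, hp, hs, e, he, Θ, hΘ⟩ := hm
  have hsur : Surjective X.hom := by
    refine ⟨fun y => ⟨(η[X] : 𝟙_ (Over (Spc R)) ⟶ X).left y, ?_⟩⟩
    have h1 : (η[X] : 𝟙_ (Over (Spc R)) ⟶ X).left ≫ X.hom = 𝟙 _ := Over.w _
    rw [← Scheme.Hom.comp_apply, h1]
    rfl
  have hgc : GeometricallyConnected (pullback.snd X.hom (Spec.map (CommRingCat.ofHom h))) := by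
    have hel : IsIso e.hom.left := inferInstanceAs (IsIso ((Over.forget _).map e.hom))
    have h1 : e.hom.left ≫ A.hom = pullback.snd X.hom (Spec.map (CommRingCat.ofHom h)) := Over.w e.hom
    rw [← h1]
    have h2 : GeometricallyConnected A.hom := by
      refine ⟨fun K _ y Z fst snd h => ?_⟩
      have : IsIntegral Z := GeometricallyIntegral.geometrically_isIntegral (f := A.hom) y fst snd h
      infer_instance
    exact SpreadConn.gc_iso_comp _ _
  have hgi : GeometricallyIntegral X.hom := SpreadConn.geomInt_of_gen h hinj X.hom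
  have a1 : IsProper (Red.bc (spm (IsLocalRing.residue R)) X).hom := inferInstanceAs (IsProper (pullback.snd _ _))
  have a2 : GeometricallyIntegral (Red.bc (spm (IsLocalRing.residue R)) X).hom :=
    inferInstanceAs (GeometricallyIntegral (pullback.snd _ _))
  refine ⟨Red.bc (spm (IsLocalRing.residue R)) X, inferInstance, inferInstance, a1, a2, ?_,
    (bcEnd (spm (IsLocalRing.residue R)) X).comp Θ, fun φ hφ => ?_⟩
  · obtain ⟨n, hn⟩ := Sga7.H620.DimSmooth.exists_dim X
    rw [hn, ← hn K (spm h), ← hg]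
    exact SGA7.K566.CM.topologicalKrullDim_eq_of_iso e.hom.left
  · rw [RingHom.comp_assoc]
    refine EigSpec.exists_eig_residue h X Θ (iM.comp φ) ?_
    rw [← RingHom.comp_assoc]
    exact eig_of_iso e ρ _ hΘ _ (hΦ φ hφ)

/-- The node `SP` of the proof of the Honda–Tate theorem. -/
theorem main : K511.HT.SP.{u} := by
  intro M _ _ K _ _ j A _ _ _ _ g hg O _ _ ρ Φ hΦ
  let _ : Algebra (ULift.{u} M) K := (j.comp ULift.ringEquiv.toRingHom).toAlgebra
  have gA : GrpObj (Over.mk A.hom) := ‹GrpObj A›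
  have hsmA : Smooth A.hom := smooth_of_grpObj A.hom
  obtain ⟨R, _, _, _, _, _, _, hst, hinj, hfin, hm⟩ := exists_local_mdl (ULift.{u} M) ρ
  let iM : M →+* R := (algebraMap (ULift.{u} M) R).comp (ULift.ringEquiv (R := M)).symm.toRingHom
  have hj : (algebraMap R K).comp iM = j := by
    refine RingHom.ext fun x => ?_
    have h1 := IsScalarTower.algebraMap_apply (ULift.{u} M) R K (ULift.up x)
    exact h1.symm
  have hchM : CharZero (ULift.{u} M) :=
    charZero_of_injective_ringHom (f := (ULift.ringEquiv (R := M)).symm.toRingHom) (RingHom.injective _)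
  have hchar : CharZero (IsLocalRing.ResidueField R) :=
    charZero_of_injective_algebraMap (algebraMap (ULift.{u} M) (IsLocalRing.ResidueField R)).injective
  have hM : Module.Finite ℚ (ULift.{u} M) := by
    have : Module.Finite ℚ M := inferInstance
    exact Module.Finite.equiv (ULift.moduleEquiv (R := ℚ) (M := M)).symm
  have hst1 : IsScalarTower ℚ (ULift.{u} M) (IsLocalRing.ResidueField R) := inferInstance
  have hnf : Module.Finite ℚ (IsLocalRing.ResidueField R) := Module.Finite.trans (ULift.{u} M) _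
  obtain ⟨A', h1, h2, h3, h4, h5, ρ', h6⟩ := special (algebraMap R K) hinj A g hg ρ hm iM Φ
    (by rw [hj]; exact hΦ)
  exact ⟨IsLocalRing.ResidueField R, inferInstance, hchar, ⟨⟩, (IsLocalRing.residue R).comp iM, A', h1, h2, h3, h4,
    h5, ρ', h6⟩

end K510.HT.SP
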