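import Groth.Agent.AbVar.K509.Spread
import Groth.Agent.AbVar.K509.Model
import Groth.Agent.ConsPropPair.K286.Desc
import Groth.Agent.S17449
import Groth.Agent.SGA7.K566.EndBc

/-!
# Spreading out an abelian variety with endomorphisms

`Mdl k K A`: a proper smooth commutative group scheme over the spectrum of a finitely generated `k`-algebra `R ⊆ K` with
generic fibre `A`.
* `exists_mdl`, `Mdl.bc`;
* `Mdl.exists_ext`: a homomorphism `A ⟶ A` extends after enlarging `R`;
* `exists_mdl_ring`: the action of a finite ring extends.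
-/

set_option autoImplicit false
universe u

open CategoryTheory Limits MonoidalCategory CartesianMonoidalCategory MonObj GrpObj AlgebraicGeometry

namespace K510.HT.SpreadAV

open Groth.Agent Groth.Agent.AbVar.K509

/-- The morphism of spectra of an algebra. -/
noncomputable abbrev sp (R K : Type u) [CommRing R] [CommRing K] [Algebra R K] :
    Spec (CommRingCat.of K) ⟶ Spec (CommRingCat.of R) :=
  Spec.map (CommRingCat.ofHom (algebraMap R K))

theorem sp_comp (R R' K : Type u) [CommRing R] [CommRing R'] [CommRing K] [Algebra R R'] [Algebra R' K] [Algebra R K]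
    [IsScalarTower R R' K] : sp R' K ≫ sp R R' = sp R K := by
  rw [← Spec.map_comp, ← CommRingCat.ofHom_comp, ← IsScalarTower.algebraMap_eq]

section general

variable {S T U : Scheme.{u}} {d : T ⟶ S} {A : Over T} [GrpObj A] {X : Over S} [GrpObj X]

/-- The endomorphism `f` of `A` extends to the model `X` over `S`. -/
def IsExt (d : T ⟶ S) {A : Over T} [GrpObj A] {X : Over S} [GrpObj X] (e : Red.bc d X ≅ A) (f : A ⟶ A) : Prop :=
  ∃ F : X ⟶ X, IsMonHom F ∧ (Over.pullback d).map F ≫ e.hom = e.hom ≫ f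

/-- The comparison isomorphism of a base changed model. -/
noncomputable def eBc (p : T ⟶ U) (q : U ⟶ S) (h : p ≫ q = d) (e : Red.bc d X ≅ A) :
    Red.bc p (Red.bc q X) ≅ A :=
  ActBC.bcCompIso p q X h ≪≫ e

theorem isMonHom_eBc (p : T ⟶ U) (q : U ⟶ S) (h : p ≫ q = d) (e : Red.bc d X ≅ A)
    (he : IsMonHom e.hom) : IsMonHom (eBc p q h e).hom := by
  rw [eBc, Iso.trans_hom]
  infer_instance

theorem IsExt.bc (p : T ⟶ U) (q : U ⟶ S) (h : p ≫ q = d) {e : Red.bc d X ≅ A} {f : A ⟶ A}
    (hf : IsExt d e f) : IsExt p (eBc p q h e) f := by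
  obtain ⟨F, h1, h2⟩ := hf
  refine ⟨(Over.pullback q).map F, inferInstance, ?_⟩
  have h3 := ActBC.bcCompIso_hom_naturality p q h F
  rw [eBc, Iso.trans_hom, ← Category.assoc, h3, Category.assoc, h2, Category.assoc]

theorem isExt_of_pl (p : T ⟶ U) (q : U ⟶ S) (h : p ≫ q = d) {e : Red.bc d X ≅ A} {f : A ⟶ A}
    (v : Red.bc q X ⟶ Red.bc q X) [hm : IsMonHom v] (hv : PlBc.pl p h h v = e.hom ≫ f ≫ e.inv) :
    IsExt p (eBc p q h e) f := by
  refine ⟨v, hm, ?_⟩
  rw [PlBc.pl, Iso.inv_comp_eq] at hv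
  rw [eBc, Iso.trans_hom, ← Category.assoc, hv, Category.assoc, Category.assoc, Category.assoc, Category.assoc,
    Iso.inv_hom_id, Category.comp_id]

end general

variable {K : Type u} [Field K] {A : Over (Spec (CommRingCat.of K))}
variable {k : Type u} [Field k] [Algebra k K] [GrpObj A]

/-- There is a proper smooth model over a finitely generated `k`-subalgebra to which all elements of `T` extend. -/
def HasMdl (k : Type u) [Field k] [Algebra k K] (A : Over (Spec (CommRingCat.of K))) [GrpObj A]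
    (T : Set (A ⟶ A)) : Prop :=
  ∃ (R : Type u) (_ : CommRing R) (_ : Algebra k R) (_ : Algebra R K) (_ : IsScalarTower k R K)
    (_ : Function.Injective (algebraMap R K)) (_ : Algebra.FiniteType k R) (X : Over (Spec (CommRingCat.of R)))
    (_ : GrpObj X) (_ : IsCommMonObj X) (_ : IsProper X.hom) (_ : Smooth X.hom) (e : Red.bc (sp R K) X ≅ A),
    IsMonHom e.hom ∧ ∀ f ∈ T, IsExt (sp R K) e f

/-- Existence of a model. -/
theorem hasMdl_empty [IsCommMonObj A] [IsProper A.hom] [Smooth A.hom] : HasMdl k A ∅ := by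
  classical
  have hlfp : LocallyOfFinitePresentation A.hom := inferInstance
  let P2 : Fin 2 → MorphismProperty Scheme.{u} := ![@IsProper, @Smooth]
  have hP2 : ∀ a, Ega43.LimitDescend.DescendsLim (P2 a) := by
    intro a
    fin_cases a
    · exact K286.Desc.descendsLim_isProper
    · exact Sga3.H515.LimSmooth.descendsLim_smooth
  have hP2' : ∀ a, (P2 a).IsStableUnderBaseChange := by
    intro a
    fin_cases a
    · exact inferInstanceAs (MorphismProperty.IsStableUnderBaseChange @IsProper)
    · exact inferInstanceAs (MorphismProperty.IsStableUnderBaseChange @Smooth)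
  obtain ⟨S, hS, M, h1, h2, h3, -, -, -, h4, -, -⟩ :=
    Groth.Agent.Sga3.H515.GrpModel.exists_model_of_props (𝟙 A) P2 P2 P2 hP2 hP2' hP2 hP2' hP2 hP2'
  have hp : IsProper M.G₀.hom := h4 0 ‹IsProper A.hom›
  have hs : Smooth M.G₀.hom := h4 1 ‹Smooth A.hom›
  have hd := Model.dominant_of_injective S.val.toRingHom Subtype.val_injective
  have hcb : IsCommMonObj (Red.bc (Spec.map (CommRingCat.ofHom S.val.toRingHom)) M.G₀) :=
    Groth.Agent.Sga7.H333.GenComm.isCommMonObj_of_mono' M.eG.hom
  have hc : IsCommMonObj M.G₀ :=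
    Groth.Agent.Sga7.H333.GenComm.isCommMonObj_of_dominant (Spec.map (CommRingCat.ofHom S.val.toRingHom)) M.G₀
  obtain ⟨F, hF⟩ := hS
  let R₀ : Subalgebra k K := Algebra.adjoin k (F : Set K)
  have hle : ∀ s ∈ S, s ∈ R₀ := by
    intro s hs
    rw [← hF] at hs
    have h : Algebra.adjoin ℤ (F : Set K) ≤ R₀.restrictScalars ℤ := Algebra.adjoin_le (Algebra.subset_adjoin)
    exact h hs
  let inc : S →+* R₀ := S.val.toRingHom.codRestrict R₀ (fun s => hle _ s.2)
  let s : Spec (CommRingCat.of R₀) ⟶ Spec (CommRingCat.of S) := Spec.map (CommRingCat.ofHom inc)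
  have hrs : sp R₀ K ≫ s = Spec.map (CommRingCat.ofHom S.val.toRingHom) := by
    rw [← Spec.map_comp]
    rfl
  have a1 : IsProper (Red.bc s M.G₀).hom := inferInstanceAs (IsProper (pullback.snd _ s))
  have a2 : Smooth (Red.bc s M.G₀).hom := inferInstanceAs (Smooth (pullback.snd _ s))
  have hft : Algebra.FiniteType k R₀ := (Subalgebra.fg_iff_finiteType _).1 ⟨F, rfl⟩
  exact ⟨R₀, inferInstance, inferInstance, inferInstance, inferInstance, Subtype.val_injective, hft, Red.bc s M.G₀,
    inferInstance, inferInstance, a1, a2, ActBC.bcCompIso (sp R₀ K) s M.G₀ hrs ≪≫ M.eG, by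
      rw [Iso.trans_hom]; infer_instance, fun f hf => hf.elim⟩

theorem HasMdl.insert {T : Set (A ⟶ A)} (h : HasMdl k A T) (f : A ⟶ A) [IsMonHom f] :
    HasMdl k A (Insert.insert f T) := by
  obtain ⟨R, _, _, _, _, hi, hft, X, _, _, hp, hs, e, he, hT⟩ := h
  have hw : Spec.map (CommRingCat.ofHom (algebraMap R K)) ≫ 𝟙 (Spec (CommRingCat.of R)) = sp R K := Category.comp_id _
  have i1 : LocallyOfFinitePresentation X.hom := inferInstance
  have hα : IsMonHom (e.hom ≫ f ≫ e.inv) := inferInstance
  obtain ⟨S, hS, wf, wt, v, hv, hv'⟩ := Spread.exists_spread (W := R) (L := K) (𝟙 _) (𝟙 _) X X hw hw (e.hom ≫ f ≫ e.inv)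
  have hS' : Algebra.FiniteType R S := (Subalgebra.fg_iff_finiteType _).1 hS
  have hSk : Algebra.FiniteType k S := Algebra.FiniteType.trans hft hS'
  let q : Spec (CommRingCat.of S) ⟶ Spec (CommRingCat.of R) := Spread.tS S ≫ 𝟙 _
  have hq : Spread.iS S ≫ q = sp R K := wf
  have a1 : IsProper (Red.bc q X).hom := inferInstanceAs (IsProper (pullback.snd _ q))
  have a2 : Smooth (Red.bc q X).hom := inferInstanceAs (Smooth (pullback.snd _ q))
  refine ⟨S, inferInstance, inferInstance, inferInstance, inferInstance, Subtype.val_injective, hSk, Red.bc q X,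
    inferInstance, inferInstance, a1, a2, eBc (Spread.iS S) q hq e, isMonHom_eBc _ q hq e he, ?_⟩
  rintro g (rfl | hg)
  · exact isExt_of_pl (Spread.iS S) q hq v hv'
  · exact (hT g hg).bc _ q hq

end K510.HT.SpreadAV
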