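import Groth.Agent.AbVar.K510.HT.SpreadAV
import Groth.Agent.AbVar.K511.HT.Iface
import Groth.Agent.Sga7.H737.FlatMonoBC

/-!
# Spreading out an abelian variety with the action of a ring which is finite over the integers

`exists_mdl_ring`, and its localization `exists_local_mdl` at a closed point.
-/

set_option autoImplicit false
universe u

open CategoryTheory Limits MonoidalCategory CartesianMonoidalCategory MonObj GrpObj AlgebraicGeometry

namespace K510.HT.SpreadAct

open Groth.Agent Groth.Agent.AbVar.K509 K510.HT.SpreadAV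

section general

/-- Lifting a ring homomorphism along an injective one. -/
theorem exists_lift {O E E' : Type*} [Ring O] [Ring E] [Ring E'] (ψ : E' →+* E) (hψ : Function.Injective ψ)
    (ρ : O →+* E) (h : ∀ b, ρ b ∈ ψ.range) : ∃ Θ : O →+* E', ∀ b, ψ (Θ b) = ρ b := by
  have hb : Function.Bijective ψ.rangeRestrict :=
    ⟨fun x y hxy => hψ (congrArg Subtype.val hxy), ψ.rangeRestrict_surjective⟩
  let e := RingEquiv.ofBijective ψ.rangeRestrict hb
  refine ⟨e.symm.toRingHom.comp (ρ.codRestrict ψ.range h), fun b => ?_⟩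
  have h1 : e (e.symm (ρ.codRestrict ψ.range h b)) = ρ.codRestrict ψ.range h b := e.apply_symm_apply _
  exact congrArg Subtype.val h1

/-- The same when only generators of the additive group are known to lift. -/
theorem exists_lift_of_span {O E E' : Type*} [Ring O] [Ring E] [Ring E'] (ψ : E' →+* E)
    (hψ : Function.Injective ψ) (ρ : O →+* E) (s : Set O) (hs : Submodule.span ℤ s = ⊤)
    (h : ∀ b ∈ s, ρ b ∈ ψ.range) : ∃ Θ : O →+* E', ∀ b, ψ (Θ b) = ρ b := by
  refine exists_lift ψ hψ ρ fun b => ?_
  have hb : b ∈ Submodule.span ℤ s := by rw [hs]; trivial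
  induction hb using Submodule.span_induction with
  | mem x hx => exact h x hx
  | zero => rw [map_zero]; exact zero_mem _
  | add x y _ _ hx hy => rw [map_add]; exact add_mem hx hy
  | smul a x _ hx => rw [map_zsmul]; exact zsmul_mem hx a

variable {S T : Scheme.{u}} (d : T ⟶ S) {A : Over T} [GrpObj A] [IsCommMonObj A] {X : Over S} [GrpObj X]
  [IsCommMonObj X] (e : Red.bc d X ≅ A) [IsMonHom e.hom]

/-- Restriction of endomorphisms to the generic fibre. -/
noncomputable def restr : EndAV.End X →+* EndAV.End A :=
  have : IsMonHom e.symm.hom := inferInstanceAs (IsMonHom e.inv)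
  (SGA7.K566.EndBc.conjEnd e.symm).comp (SGA7.K566.EndBc.bcEnd d X)

theorem restr_apply (F : EndAV.End X) : (restr d e F).toHom = e.inv ≫ (Over.pullback d).map F.toHom ≫ e.hom := rfl

theorem restr_eq_iff (F : EndAV.End X) (f : EndAV.End A) :
    restr d e F = f ↔ (Over.pullback d).map F.toHom ≫ e.hom = e.hom ≫ f.toHom := by
  rw [← Iso.inv_comp_eq]
  exact ⟨fun h => congrArg EndAV.End.toHom h, fun h => EndAV.End.ext h⟩

theorem restr_injective [IsSchemeTheoreticallyDominant d] [QuasiCompact d] [Flat X.hom] [IsSeparated X.hom] :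
    Function.Injective (restr d e) := by
  intro F G h
  have h1 := congrArg EndAV.End.toHom h
  rw [restr_apply, restr_apply, cancel_epi, cancel_mono] at h1
  exact EndAV.End.ext (Sga7.H737.FlatMonoBC.ext_of_dominant d _ _ h1)

theorem mem_range_of_isExt (f : EndAV.End A) (h : IsExt d e f.toHom) : f ∈ (restr d e).range := by
  obtain ⟨F, hF, h1⟩ := h
  exact ⟨EndAV.End.of F, (restr_eq_iff d e _ f).2 h1⟩

omit [IsMonHom e.hom] in
/-- Composition of base changes and restriction. -/
theorem restr_bc {U : Scheme.{u}} (p : T ⟶ U) (q : U ⟶ S) (h : p ≫ q = d) (F : EndAV.End X) (f : EndAV.End A)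
    (hF : (Over.pullback d).map F.toHom ≫ e.hom = e.hom ≫ f.toHom) :
    (Over.pullback p).map (K511.HT.bcEnd q X F).toHom ≫ (eBc p q h e).hom = (eBc p q h e).hom ≫ f.toHom := by
  have h3 := ActBC.bcCompIso_hom_naturality p q h F.toHom
  change (Over.pullback p).map ((Over.pullback q).map F.toHom) ≫ _ = _
  rw [eBc, Iso.trans_hom, ← Category.assoc, h3, Category.assoc, hF, Category.assoc]

/-- There is a proper smooth commutative group scheme over `S` with an action of `O` extending `(A, ρ)`. -/
def RMdl {S T : Scheme.{u}} (d : T ⟶ S) (A : Over T) [GrpObj A] [IsCommMonObj A] {O : Type*} [CommRing O]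
    (ρ : O →+* EndAV.End A) : Prop :=
  ∃ (X : Over S) (_ : GrpObj X) (_ : IsCommMonObj X) (_ : IsProper X.hom) (_ : Smooth X.hom) (e : Red.bc d X ≅ A)
    (_ : IsMonHom e.hom) (Θ : O →+* EndAV.End X),
    ∀ b, (Over.pullback d).map (Θ b).toHom ≫ e.hom = e.hom ≫ (ρ b).toHom

theorem RMdl.bc {S T U : Scheme.{u}} {d : T ⟶ S} {A : Over T} [GrpObj A] [IsCommMonObj A] {O : Type*} [CommRing O]
    {ρ : O →+* EndAV.End A} (hm : RMdl d A ρ) (p : T ⟶ U) (q : U ⟶ S) (h : p ≫ q = d) : RMdl p A ρ := by
  obtain ⟨X, _, _, hp, hs, e, he, Θ, hΘ⟩ := hm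
  have a1 : IsProper (Red.bc q X).hom := inferInstanceAs (IsProper (pullback.snd _ _))
  have a2 : Smooth (Red.bc q X).hom := inferInstanceAs (Smooth (pullback.snd _ _))
  exact ⟨Red.bc q X, inferInstance, inferInstance, a1, a2, eBc p q h e, isMonHom_eBc _ _ h e he,
    (K511.HT.bcEnd q X).comp Θ, fun b => restr_bc _ e p q h (Θ b) (ρ b) (hΘ b)⟩

end general

variable {K : Type u} [Field K] {A : Over (Spec (CommRingCat.of K))}
variable (k : Type u) [Field k] [Algebra k K] [GrpObj A]

variable {k} in
theorem hasMdl_finite [IsCommMonObj A] [IsProper A.hom] [Smooth A.hom] {T : Set (A ⟶ A)} (hT : T.Finite)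
    (h : ∀ f ∈ T, IsMonHom f) : HasMdl k A T := by
  induction T, hT using Set.Finite.induction_on with
  | empty => exact hasMdl_empty
  | @insert a s _ _ ih =>
    have h1 : HasMdl k A s := ih fun f hf => h f (Set.mem_insert_of_mem _ hf)
    have h2 : IsMonHom a := h a (Set.mem_insert _ _)
    exact h1.insert a

/-- Spreading out an abelian variety with the action of a finite ring. -/
theorem exists_mdl_ring [IsCommMonObj A] [IsProper A.hom] [Smooth A.hom] {O : Type*} [CommRing O] [Module.Finite ℤ O]
    (ρ : O →+* EndAV.End A) :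
    ∃ (R : Type u) (_ : CommRing R) (_ : Algebra k R) (_ : Algebra R K) (_ : IsScalarTower k R K)
    (_ : Function.Injective (algebraMap R K)) (_ : Algebra.FiniteType k R), RMdl (sp R K) A ρ := by
  obtain ⟨s, hs⟩ := (‹Module.Finite ℤ O› : Module.Finite ℤ O).fg_top
  have hfin : ((fun b => (ρ b).toHom) '' (s : Set O)).Finite := s.finite_toSet.image _
  obtain ⟨R, _, _, _, _, hi, hft, X, _, _, hp, hsm, e, he, hT⟩ := hasMdl_finite (k := k) (A := A) hfin (by
    rintro _ ⟨b, _, rfl⟩
    infer_instance)
  have hdom : IsSchemeTheoreticallyDominant (sp R K) := Model.dominant_of_injective _ hi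
  have hqc : QuasiCompact (sp R K) := inferInstance
  have hfl : Flat X.hom := inferInstance
  obtain ⟨Θ, hΘ⟩ := exists_lift_of_span (restr (sp R K) e) (restr_injective _ e) ρ (s : Set O) hs
    (fun b hb => mem_range_of_isExt _ e _ (hT _ ⟨b, hb, rfl⟩))
  exact ⟨R, inferInstance, inferInstance, inferInstance, inferInstance, hi, hft, X, inferInstance, inferInstance, hp,
    hsm, e, he, Θ, fun b => (restr_eq_iff _ e _ _).1 (hΘ b)⟩

/-- A model over a local ring which is essentially of finite type, with residue field finite over `k`. -/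
theorem exists_local_mdl [IsCommMonObj A] [IsProper A.hom] [Smooth A.hom] {O : Type*} [CommRing O]
    [Module.Finite ℤ O] (ρ : O →+* EndAV.End A) :
    ∃ (R : Type u) (_ : CommRing R) (_ : IsLocalRing R) (_ : IsDomain R) (_ : IsNoetherianRing R) (_ : Algebra k R)
    (_ : Algebra R K) (_ : IsScalarTower k R K)
    (_ : Function.Injective (algebraMap R K)) (_ : Module.Finite k (IsLocalRing.ResidueField R)),
    RMdl (sp R K) A ρ := by
  obtain ⟨R, _, _, _, _, hi, hft, hm⟩ := exists_mdl_ring k ρ
  have hdomR : IsDomain R := hi.isDomain (algebraMap R K)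
  have hnR : IsNoetherianRing R := Algebra.FiniteType.isNoetherianRing k R
  obtain ⟨m, hmax⟩ := Ideal.exists_maximal R
  let R' := Localization.AtPrime m
  have hunit : ∀ y : m.primeCompl, IsUnit (algebraMap R K y) := by
    intro y
    rw [isUnit_iff_ne_zero]
    intro h0
    have : (y : R) = 0 := hi (by rw [h0, map_zero])
    exact y.2 (by rw [this]; exact m.zero_mem)
  let ψ : R' →+* K := IsLocalization.lift hunit
  let _ : Algebra R' K := ψ.toAlgebra
  have hψ : ψ.comp (algebraMap R R') = algebraMap R K := IsLocalization.lift_comp hunit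
  have ht : IsScalarTower R R' K := IsScalarTower.of_algebraMap_eq' hψ.symm
  have ht1 : IsScalarTower k R R' := inferInstance
  have ht2 : IsScalarTower k R' K := by
    refine IsScalarTower.of_algebraMap_eq fun x => ?_
    rw [IsScalarTower.algebraMap_apply k R R', ← IsScalarTower.algebraMap_apply R R' K,
      ← IsScalarTower.algebraMap_apply k R K]
  have hinj : Function.Injective (algebraMap R' K) := by
    refine (IsLocalization.lift_injective_iff hunit).2 fun x y => ?_
    constructor
    · intro h
      exact congrArg (algebraMap R K)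
        (IsLocalization.injective R' (Ideal.primeCompl_le_nonZeroDivisors m) h)
    · intro h
      exact congrArg (algebraMap R R') (hi h)
  have hdomR' : IsDomain R' := inferInstance
  have hnR' : IsNoetherianRing R' := IsLocalization.isNoetherianRing m.primeCompl R' hnR
  have hsur : Function.Surjective (algebraMap R (IsLocalRing.ResidueField R')) :=
    Ideal.algebraMap_residueField_surjective m
  have htk : IsScalarTower k R (IsLocalRing.ResidueField R') := inferInstance
  have hft' : Algebra.FiniteType k (IsLocalRing.ResidueField R') :=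
    hft.of_surjective (IsScalarTower.toAlgHom k R (IsLocalRing.ResidueField R')) hsur
  have hfin : Module.Finite k (IsLocalRing.ResidueField R') := finite_of_finite_type_of_isJacobsonRing k _
  have hw : sp R' K ≫ sp R R' = sp R K := sp_comp R R' K
  exact ⟨R', inferInstance, inferInstance, hdomR', hnR', inferInstance, inferInstance, ht2, hinj, hfin,
    hm.bc (sp R' K) (sp R R') hw⟩

end K510.HT.SpreadAct
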